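import Groth.Agent.Sga7.H560.QAlg
import Groth.Agent.Sga4h.CycField

/-!
# The procyclic cover `Spec k[ℚ] ⟶ Spec k[ℤ]`

`exists_cyc`: for an algebraically closed field `k` of characteristic zero, `Spec k[ℚ] ⟶ Spec k[ℤ]` is the
limit of the cyclic étale covers `Spec k[(1/a!)ℤ] ⟶ Spec k[ℤ]` (`CycData`).
-/

set_option autoImplicit false
set_option backward.isDefEq.respectTransparency.types false
universe u

open CategoryTheory CategoryTheory.Limits AlgebraicGeometry Opposite

namespace Groth.Agent.Sga7.H560.QCov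

open Groth.Agent.Sga7.H763.Dia Groth.Agent.Sga7.H560.QAlg
open Groth.Agent.EtpbcB.Big Groth.Agent.Sga4h.SigmaSeq

section Alg

variable {k : Type u} [Field k]

/-- `k[L_a]` is generated by `k` and `X ^ (± 1 / a!)`. -/
theorem hom_ext_Lv {S : Type u} [CommRing S] {a : ℕ} {f g : AddMonoidAlgebra k (Lv a) →+* S}
    (h0 : ∀ r, f (AddMonoidAlgebra.single 0 r) = g (AddMonoidAlgebra.single 0 r))
    (h1 : f (AddMonoidAlgebra.single (gn a) 1) = g (AddMonoidAlgebra.single (gn a) 1)) : f = g := by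
  apply hom_ext' h0
  intro m
  obtain ⟨m, rfl⟩ := (eLv a).surjective m
  let F : Multiplicative ℤ →* S := (chr f).comp (AddMonoidHom.toMultiplicative (eLv a).toAddMonoidHom)
  let G : Multiplicative ℤ →* S := (chr g).comp (AddMonoidHom.toMultiplicative (eLv a).toAddMonoidHom)
  have h : F = G := by
    apply MonoidHom.ext_mint
    change f (AddMonoidAlgebra.single (eLv a 1) 1) = g (AddMonoidAlgebra.single (eLv a 1) 1)
    rw [eLv_one, h1]
  exact DFunLike.congr_fun h (Multiplicative.ofAdd m)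

variable (χ : Multiplicative ℚ →* k) (hχ : χ (Multiplicative.ofAdd 1) = 1)
  (hp : ∀ N : ℕ, 0 < N → IsPrimitiveRoot (χ (Multiplicative.ofAdd (1 / (N : ℚ)))) N)

include hχ in
theorem χ_int (m : ℤ) : χ (Multiplicative.ofAdd (m : ℚ)) = 1 := by
  let F : Multiplicative ℤ →* k := χ.comp (AddMonoidHom.toMultiplicative (Int.castAddHom ℚ))
  have h : F = 1 := by
    apply MonoidHom.ext_mint
    change χ (Multiplicative.ofAdd ((1 : ℤ) : ℚ)) = 1
    rw [Int.cast_one, hχ]
  exact DFunLike.congr_fun h (Multiplicative.ofAdd m)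

/-- The restriction of the character. -/
def χa (a : ℕ) : Multiplicative (Lv a) →* k :=
  χ.comp (AddMonoidHom.toMultiplicative (Lv a).subtype)

theorem χa_apply (a : ℕ) (x : Lv a) :
    χa χ a (Multiplicative.ofAdd x) = χ (Multiplicative.ofAdd (x : ℚ)) := rfl

include hχ in
theorem χa_pow (a : ℕ) (x : Lv a) : χa χ a (Multiplicative.ofAdd x) ^ a.factorial = 1 := by
  obtain ⟨m, hm⟩ := mem_Lv.1 x.2
  rw [χa_apply, ← map_pow, ← ofAdd_nsmul, nsmul_eq_mul, ← hm, χ_int χ hχ]

include hχ in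
theorem tw_pow_card (a : ℕ) : tw k (χa χ a) ^ a.factorial = RingHom.id _ := by
  apply hom_ext'
  · intro r
    rw [tw_pow_single, χa_pow χ hχ, one_mul]
    rfl
  · intro m
    rw [tw_pow_single, χa_pow χ hχ, one_mul]
    rfl

include hp in
theorem χa_gn (a : ℕ) : IsPrimitiveRoot (χa χ a (Multiplicative.ofAdd (gn a))) a.factorial :=
  hp _ a.factorial_pos

theorem tw_pow_gn {Ω : Type u} [CommRing Ω] (a j : ℕ) (φ : AddMonoidAlgebra k (Lv a) →+* Ω) :
    φ ((tw k (χa χ a) ^ j) (AddMonoidAlgebra.single (gn a) 1)) =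
      cst φ (χa χ a (Multiplicative.ofAdd (gn a))) ^ j * φ (AddMonoidAlgebra.single (gn a) 1) := by
  rw [tw_pow_single, mul_one, ← map_pow (cst φ), cst_apply, ← map_mul φ,
    AddMonoidAlgebra.single_mul_single, zero_add, mul_one]

theorem gn_ne_zero {Ω : Type u} [Field Ω] (a : ℕ) (φ : AddMonoidAlgebra k (Lv a) →+* Ω) :
    φ (AddMonoidAlgebra.single (gn a) 1) ≠ 0 := by
  intro h
  have h1 : (AddMonoidAlgebra.single (gn a) 1 : AddMonoidAlgebra k (Lv a)) *
      AddMonoidAlgebra.single (-gn a) 1 = 1 := by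
    rw [AddMonoidAlgebra.single_mul_single, add_neg_cancel, mul_one]
    rfl
  have h2 := congrArg φ h1
  rw [map_mul, h, zero_mul, map_one] at h2
  exact zero_ne_one h2

include hp in
theorem tw_free {Ω : Type u} [Field Ω] (a : ℕ) (φ : AddMonoidAlgebra k (Lv a) →+* Ω) (j j' : ℕ)
    (hj : j < a.factorial) (hj' : j' < a.factorial)
    (h : φ.comp (tw k (χa χ a) ^ j) = φ.comp (tw k (χa χ a) ^ j')) : j = j' := by
  have h1 := RingHom.congr_fun h (AddMonoidAlgebra.single (gn a) 1)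
  rw [RingHom.comp_apply, RingHom.comp_apply, tw_pow_gn, tw_pow_gn] at h1
  have h2 := mul_right_cancel₀ (gn_ne_zero a φ) h1
  exact ((χa_gn χ hp a).map_of_injective (f := cst φ) (cst φ).injective).pow_inj hj hj' h2

include hp in
theorem tw_trans {Ω : Type u} [Field Ω] (a : ℕ) (φ φ' : AddMonoidAlgebra k (Lv a) →+* Ω)
    (h : φ.comp (rm k (ι a)) = φ'.comp (rm k (ι a))) :
    ∃ j < a.factorial, φ' = φ.comp (tw k (χa χ a) ^ j) := by
  have hc : ∀ r, φ (AddMonoidAlgebra.single 0 r) = φ' (AddMonoidAlgebra.single 0 r) := by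
    intro r
    have h1 := RingHom.congr_fun h (AddMonoidAlgebra.single 0 r)
    rw [RingHom.comp_apply, RingHom.comp_apply, rm_single, map_zero] at h1
    exact h1
  have hX : φ (AddMonoidAlgebra.single (gn a) 1) ^ a.factorial =
      φ' (AddMonoidAlgebra.single (gn a) 1) ^ a.factorial := by
    have h1 := RingHom.congr_fun h (AddMonoidAlgebra.single 1 1)
    rw [RingHom.comp_apply, RingHom.comp_apply, rm_single, ι_eq, mul_one, eLv_apply] at h1
    rw [← map_pow, ← map_pow, AddMonoidAlgebra.single_pow, one_pow, ← natCast_zsmul]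
    exact h1
  have hy := gn_ne_zero a φ
  have : NeZero a.factorial := ⟨a.factorial_ne_zero⟩
  obtain ⟨j, hj, hj'⟩ := ((χa_gn χ hp a).map_of_injective (f := cst φ)
    (cst φ).injective).eq_pow_of_pow_eq_one
      (ξ := φ' (AddMonoidAlgebra.single (gn a) 1) / φ (AddMonoidAlgebra.single (gn a) 1)) (by
        rw [div_pow, ← hX, div_self (pow_ne_zero _ hy)])
  refine ⟨j, hj, hom_ext_Lv ?_ ?_⟩
  · intro r
    rw [RingHom.comp_apply, tw_pow_single, ofAdd_zero, map_one, one_pow, one_mul, hc]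
  · rw [RingHom.comp_apply, tw_pow_gn, hj', div_mul_cancel₀ _ hy]

theorem lift_char {Ω : Type u} [Field Ω] [IsSepClosed Ω] [CharZero k] (a : ℕ)
    (φ : AddMonoidAlgebra k (Lv a) →+* Ω) :
    ∃ Φ : AddMonoidAlgebra k ℚ →+* Ω, Φ.comp (rm k (Lv a).subtype) = φ := by
  have : CharZero Ω := charZero_of_injective_ringHom (cst φ).injective
  obtain ⟨ω, hω⟩ := extend (Lv a) (chr φ)
  refine ⟨mk k (cst φ) ω, ?_⟩
  rw [← mk_cst_chr φ]
  apply hom_ext'
  · intro r
    rw [RingHom.comp_apply, rm_single, map_zero, mk_single, mk_single, ofAdd_zero, ofAdd_zero,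
      map_one, map_one, mk_cst_chr]
  · intro m
    rw [RingHom.comp_apply, rm_single, mk_single, mk_single, mk_cst_chr]
    congr 1
    exact hω m

theorem isIntegral_rm {M M' : Type} [AddCommMonoid M] [AddCommMonoid M'] (f : M →+ M')
    (h : ∀ x : M', ∃ n : ℕ, 0 < n ∧ ∃ m, n • x = f m) : (rm k f).IsIntegral := by
  intro x
  induction x using AddMonoidAlgebra.induction_linear with
  | zero => exact RingHom.isIntegralElem_zero _
  | add x y hx hy => exact RingHom.IsIntegralElem.add _ hx hy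
  | single m r =>
    have h1 : (AddMonoidAlgebra.single m r : AddMonoidAlgebra k M') =
        AddMonoidAlgebra.single 0 r * AddMonoidAlgebra.single m 1 := by
      rw [AddMonoidAlgebra.single_mul_single, zero_add, mul_one]
    change (rm k f).IsIntegralElem (AddMonoidAlgebra.single m r)
    rw [h1]
    refine RingHom.IsIntegralElem.mul _ ?_ ?_
    · have h2 : (AddMonoidAlgebra.single 0 r : AddMonoidAlgebra k M') =
          rm k f (AddMonoidAlgebra.single 0 r) := by rw [rm_single, map_zero]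
      rw [h2]
      exact RingHom.isIntegralElem_map _
    · obtain ⟨n, hn, m', hm'⟩ := h m
      algebraize [rm k f]
      refine IsIntegral.of_pow (R := AddMonoidAlgebra k M) hn ?_
      rw [AddMonoidAlgebra.single_pow, one_pow, hm', ← rm_single k f]
      exact RingHom.isIntegralElem_map _

theorem rm_injective {M M' : Type} [AddCommMonoid M] [AddCommMonoid M'] (f : M →+ M')
    (h : Function.Injective f) : Function.Injective (rm k f) :=
  AddMonoidAlgebra.mapDomain_injective h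

theorem isIntegral_ι (a : ℕ) : (rm k (ι a)).IsIntegral := by
  refine isIntegral_rm _ fun x => ⟨a.factorial, a.factorial_pos, ?_⟩
  obtain ⟨m, rfl⟩ := (eLv a).surjective x
  refine ⟨m, ?_⟩
  rw [ι_eq, ← map_nsmul, nsmul_eq_mul]

theorem ι_injective (a : ℕ) : Function.Injective (ι a) := fun _ _ h =>
  Int.cast_injective (congrArg Subtype.val h)

end Alg

section Cov

variable (k : Type u) [Field k]

/-- The system of rings. -/
noncomputable def G : ULift.{u} ℕ ⥤ CommRingCat.{u} where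
  obj a := CommRingCat.of (AddMonoidAlgebra k (Lv a.down))
  map h := CommRingCat.ofHom (rm k (AddSubgroup.inclusion (Lv_mono (ULift.down_le.2 h.le))))
  map_id a := by
    rw [← CommRingCat.ofHom_id, ← rm_id]
    rfl
  map_comp f g := by
    rw [← CommRingCat.ofHom_comp, ← rm_comp]
    rfl

/-- The cocone with point `k[ℚ]`. -/
noncomputable def coc : Cocone (G k) where
  pt := CommRingCat.of (AddMonoidAlgebra k ℚ)
  ι :=
    { app := fun a => CommRingCat.ofHom (rm k (Lv a.down).subtype)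
      naturality := fun a b h => by
        change CommRingCat.ofHom _ ≫ CommRingCat.ofHom _ = CommRingCat.ofHom _ ≫ 𝟙 _
        rw [Category.comp_id, ← CommRingCat.ofHom_comp, ← rm_comp]
        rfl }

theorem exists_level (x : AddMonoidAlgebra k ℚ) :
    ∃ (a : ℕ) (y : AddMonoidAlgebra k (Lv a)), rm k (Lv a).subtype y = x := by
  induction x using AddMonoidAlgebra.induction_linear with
  | zero => exact ⟨0, 0, map_zero _⟩
  | add x y hx hy =>
    obtain ⟨a, x', hx'⟩ := hx
    obtain ⟨b, y', hy'⟩ := hy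
    refine ⟨max a b, rm k (AddSubgroup.inclusion (Lv_mono (le_max_left a b))) x' +
      rm k (AddSubgroup.inclusion (Lv_mono (le_max_right a b))) y', ?_⟩
    rw [map_add, ← RingHom.comp_apply, ← RingHom.comp_apply, ← rm_comp, ← rm_comp, ← hx', ← hy']
    rfl
  | single m r =>
    obtain ⟨a, ha⟩ := exists_mem_Lv m
    exact ⟨a, AddMonoidAlgebra.single ⟨m, ha⟩ r, rm_single k _ _ _⟩

theorem nonempty_isColimit : Nonempty (IsColimit (coc k)) := by
  apply Etcore.FGLim.nonempty_isColimit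
  · intro x
    obtain ⟨a, y, hy⟩ := exists_level k x
    exact ⟨⟨a⟩, y, hy⟩
  · intro B y z h
    exact ⟨B, 𝟙 B, congrArg _ (rm_injective (Lv B.down).subtype Subtype.val_injective h)⟩

/-- The system of spectra. -/
noncomputable abbrev TT : (ULift.{u} ℕ)ᵒᵖ ⥤ Scheme.{u} := Etcore.PullbackLim.specSys (G k)

/-- The cone with point `Spec k[ℚ]`. -/
noncomputable abbrev cc : Cone (TT k) := Etcore.PullbackLim.specCone (G k) (coc k)

/-- `Spec k[L_a] ⟶ Spec k[ℤ]`. -/
noncomputable abbrev ττ (a : (ULift.{u} ℕ)ᵒᵖ) : (TT k).obj a ⟶ D k ℤ := Dm k (ι a.unop.down)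

/-- `Spec k[ℚ] ⟶ Spec k[ℤ]`. -/
noncomputable abbrev tt : D k ℚ ⟶ D k ℤ := Dm k (Int.castAddHom ℚ)

theorem etale_Dm_ι [CharZero k] (a : ℕ) : Etale (Dm k (ι a)) := by
  change Etale (Spec.map (CommRingCat.ofHom (rm k (ι a))))
  rw [HasRingHomProperty.Spec_iff (P := @AlgebraicGeometry.Etale)]
  exact etale_rm k (eLv a) a.factorial a.factorial_pos (ι a) (ι_eq a)

theorem surjective_Dm_ι (a : ℕ) : Surjective (Dm k (ι a)) :=
  ⟨(isIntegral_ι a).comap_surjective (rm_injective _ (ι_injective a))⟩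

instance isIntegralHom_tt : IsIntegralHom (tt k) := by
  change IsIntegralHom (Spec.map (CommRingCat.ofHom (rm k (Int.castAddHom ℚ))))
  rw [IsIntegralHom.SpecMap_iff]
  refine isIntegral_rm _ fun x => ⟨x.den, x.den_pos, x.num, ?_⟩
  rw [nsmul_eq_mul, mul_comm]
  exact Rat.mul_den_eq_num x

theorem ht_aux (a : ℕ) : Dm k (Lv a).subtype ≫ Dm k (ι a) = tt k := by
  rw [Dm_comp]
  rfl

theorem hτ_aux {a b : ℕ} (h : a ≤ b) :
    Dm k (AddSubgroup.inclusion (Lv_mono h)) ≫ Dm k (ι a) = Dm k (ι b) := by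
  rw [Dm_comp]
  rfl

variable (χ : Multiplicative ℚ →* k) (hχ : χ (Multiplicative.ofAdd 1) = 1)
  (hp : ∀ N : ℕ, 0 < N → IsPrimitiveRoot (χ (Multiplicative.ofAdd (1 / (N : ℚ)))) N)

include hχ in
theorem ord_aux (a : ℕ) : it (Spec.map (CommRingCat.ofHom (tw k (χa χ a)))) a.factorial =
    𝟙 (Spec (CommRingCat.of (AddMonoidAlgebra k (Lv a)))) := by
  rw [Groth.Agent.Sga4h.CycField.it_specMap, tw_pow_card χ hχ]
  exact Spec.map_id _

include hp in
theorem trans_aux (a : ℕ) (Ω : Type u) [Field Ω] 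
    (m m' : Spec (.of Ω) ⟶ Spec (CommRingCat.of (AddMonoidAlgebra k (Lv a))))
    (h : m ≫ Spec.map (CommRingCat.ofHom (rm k (ι a))) =
      m' ≫ Spec.map (CommRingCat.ofHom (rm k (ι a)))) :
    ∃ j < a.factorial, m' = m ≫ it (Spec.map (CommRingCat.ofHom (tw k (χa χ a)))) j := by
  obtain ⟨φ, rfl⟩ := Spec.map_surjective m
  obtain ⟨φ', rfl⟩ := Spec.map_surjective m'
  rw [← Spec.map_comp, ← Spec.map_comp] at h
  have h2 := congrArg CommRingCat.Hom.hom (Spec.map_injective h)
  obtain ⟨j, hj, hj'⟩ := tw_trans χ hp a φ.hom φ'.hom h2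
  refine ⟨j, hj, ?_⟩
  rw [Groth.Agent.Sga4h.CycField.it_specMap, ← Spec.map_comp]
  congr 1
  apply CommRingCat.hom_ext
  exact hj'

include hp in
theorem free_aux (a : ℕ) (Ω : Type u) [Field Ω]
    (m : Spec (.of Ω) ⟶ Spec (CommRingCat.of (AddMonoidAlgebra k (Lv a)))) (j j' : ℕ)
    (hj : j < a.factorial) (hj' : j' < a.factorial)
    (h : m ≫ it (Spec.map (CommRingCat.ofHom (tw k (χa χ a)))) j =
      m ≫ it (Spec.map (CommRingCat.ofHom (tw k (χa χ a)))) j') : j = j' := by
  obtain ⟨φ, rfl⟩ := Spec.map_surjective m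
  rw [Groth.Agent.Sga4h.CycField.it_specMap, Groth.Agent.Sga4h.CycField.it_specMap, ← Spec.map_comp,
    ← Spec.map_comp] at h
  have h2 := congrArg CommRingCat.Hom.hom (Spec.map_injective h)
  exact tw_free χ hp a φ.hom j j' hj hj' h2

theorem lift_aux [CharZero k] (a : ℕ) (Ω : Type u) [Field Ω] [IsSepClosed Ω]
    (m : Spec (.of Ω) ⟶ Spec (CommRingCat.of (AddMonoidAlgebra k (Lv a)))) :
    ∃ m' : Spec (.of Ω) ⟶ Spec (CommRingCat.of (AddMonoidAlgebra k ℚ)),
      m' ≫ Spec.map (CommRingCat.ofHom (rm k (Lv a).subtype)) = m := by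
  obtain ⟨φ, rfl⟩ := Spec.map_surjective m
  obtain ⟨Φ, hΦ⟩ := lift_char a φ.hom
  refine ⟨Spec.map (CommRingCat.ofHom Φ), ?_⟩
  rw [← Spec.map_comp]
  congr 1
  apply CommRingCat.hom_ext
  exact hΦ

/-- The procyclic cover `Spec k[ℚ] ⟶ Spec k[ℤ]`. -/
noncomputable def cyc [CharZero k] (n : ℕ) (hn : 0 < n) :
    CycData (TT k) (ττ k) (cc k) (tt k) n where
  hτ a b h := hτ_aux k (ULift.down_le.2 h.unop.le)
  hc := Etcore.PullbackLim.isLimitSpecCone _ _ (nonempty_isColimit k).some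
  ht a := ht_aux k a.unop.down
  aff a := by
    change IsAffineHom (Dm k _)
    infer_instance
  et a := etale_Dm_ι k a.unop.down
  surj a := surjective_Dm_ι k a.unop.down
  σ := Spec.map (CommRingCat.ofHom (tw k χ))
  σa a := Spec.map (CommRingCat.ofHom (tw k (χa χ a.unop.down)))
  hσ a := by
    change Spec.map _ ≫ Spec.map (CommRingCat.ofHom _) = Spec.map (CommRingCat.ofHom _) ≫ Spec.map _
    rw [← Spec.map_comp, ← Spec.map_comp, ← CommRingCat.ofHom_comp, ← CommRingCat.ofHom_comp]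
    congr 2
    exact tw_rm k (Lv a.unop.down).subtype (χa χ a.unop.down) χ (fun _ => rfl)
  hσT a b h := by
    change Spec.map _ ≫ Spec.map (CommRingCat.ofHom _) = Spec.map (CommRingCat.ofHom _) ≫ Spec.map _
    rw [← Spec.map_comp, ← Spec.map_comp, ← CommRingCat.ofHom_comp, ← CommRingCat.ofHom_comp]
    congr 2
    exact tw_rm k _ (χa χ b.unop.down) (χa χ a.unop.down) (fun _ => rfl)
  hσt := by
    change Spec.map (CommRingCat.ofHom _) ≫ Spec.map (CommRingCat.ofHom _) =
      Spec.map (CommRingCat.ofHom _)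
    rw [← Spec.map_comp, ← CommRingCat.ofHom_comp]
    congr 2
    exact tw_rm_of_one k _ χ (χ_int χ hχ)
  hστ a := by
    change Spec.map _ ≫ Spec.map (CommRingCat.ofHom _) = Spec.map (CommRingCat.ofHom _)
    rw [← Spec.map_comp, ← CommRingCat.ofHom_comp]
    congr 2
    exact tw_rm_of_one k _ _ (fun m => χ_int χ hχ m)
  N a := a.unop.down.factorial
  N_pos a := Nat.factorial_pos _
  ord a := ord_aux k χ hχ a.unop.down
  trans a Ω _ _ m m' h := trans_aux k χ hp a.unop.down Ω m m' h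
  free a Ω _ _ m j j' hj hj' h := free_aux k χ hp a.unop.down Ω m j j' hj hj' h
  lift a Ω _ _ m := lift_aux k a.unop.down Ω m
  grow a := by
    obtain ⟨r, hr⟩ := Nat.factorial_mul_factorial_dvd_factorial_add a.unop.down n
    refine ⟨op (ULift.up (a.unop.down + n)),
      Quiver.Hom.op (homOfLE (show a.unop ≤ ULift.up (a.unop.down + n) from
        ULift.down_le.1 (Nat.le_add_right a.unop.down n))), n.factorial * r, ?_,
      (Nat.dvd_factorial hn le_rfl).mul_right r⟩
    change (a.unop.down + n).factorial = _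
    rw [hr, mul_assoc]

end Cov

/-- The universal procyclic cover of `Spec k[ℤ]`. -/
theorem exists_cyc (k : Type u) [Field k] [IsAlgClosed k] [CharZero k] (n : ℕ) (hn : 0 < n) :
    ∃ (K : Type u) (_ : SmallCategory K) (_ : IsCofiltered K) (T : K ⥤ Scheme.{u})
      (τ : ∀ a, T.obj a ⟶ D k ℤ) (π : (Functor.const K).obj (D k ℚ) ⟶ T),
      Nonempty (CycData T τ (Cone.mk (D k ℚ) π) (Dm k (Int.castAddHom ℚ)) n) := by
  obtain ⟨χ, hχ, hp⟩ := exists_char k
  exact ⟨(ULift.{u} ℕ)ᵒᵖ, inferInstance, inferInstance, TT k, ττ k, (cc k).π, ⟨cyc k χ hχ hp n hn⟩⟩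

end Groth.Agent.Sga7.H560.QCov
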