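import Groth.Agent.Sga7.H763.Dia
import Groth.Agent.Flat2E.FinEtaleSpread
import Mathlib.Algebra.Category.Grp.Injective
import Mathlib.GroupTheory.Divisible
import Mathlib.FieldTheory.AlgebraicClosure
import Mathlib.RingTheory.RootsOfUnity.Complex
import Mathlib.FieldTheory.IsSepClosed
import Mathlib.RingTheory.RingHom.Etale

/-!
# Algebra of the cover `Spec k[ℚ] ⟶ Spec k[ℤ]`

* `exists_char`: a character of `ℚ` with kernel `ℤ` with values in an algebraically closed field of
  characteristic zero;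
* `tw χ`: the automorphism of `k[M]` attached to a character `χ` of `M`;
* `extend`: characters of subgroups of `ℚ` extend to `ℚ`;
* `etale_rm`: `k[ℤ] ⟶ k[(1/N)ℤ]` is étale.
-/

set_option autoImplicit false
universe u

open CategoryTheory CategoryTheory.Limits AlgebraicGeometry

namespace Groth.Agent.Sga7.H560.QAlg

open Groth.Agent.Sga7.H763.Dia

section Char

/-- `exp (2 π i q)` is algebraic. -/
theorem isAlgebraic_exp (q : ℚ) : IsAlgebraic ℚ (Complex.exp (2 * Real.pi * Complex.I * q)) := by
  refine IsIntegral.isAlgebraic (IsIntegral.of_pow (n := q.den) q.den_pos ?_)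
  rw [← Complex.exp_nat_mul]
  have h : (q.den : ℂ) * (2 * Real.pi * Complex.I * q) = (q.num : ℂ) * (2 * Real.pi * Complex.I) := by
    have h1 : ((q.den : ℚ) * q : ℚ) = q.num := by rw [mul_comm]; exact Rat.mul_den_eq_num q
    have h2 : (q.den : ℂ) * (q : ℂ) = (q.num : ℂ) := by
      have := congrArg (fun x : ℚ => (x : ℂ)) h1
      push_cast at this
      exact this
    linear_combination (2 * Real.pi * Complex.I) * h2
  rw [h, Complex.exp_int_mul_two_pi_mul_I]
  exact isIntegral_one

/-- The exponential on `ℚ` with values in the algebraic numbers. -/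
noncomputable def expQ : Multiplicative ℚ →* algebraicClosure ℚ ℂ where
  toFun q := ⟨Complex.exp (2 * Real.pi * Complex.I * (q.toAdd : ℚ)),
    mem_algebraicClosure_iff.2 (isAlgebraic_exp _)⟩
  map_one' := by
    apply Subtype.ext
    simp
  map_mul' p q := by
    apply Subtype.ext
    change Complex.exp _ = Complex.exp _ * Complex.exp _
    rw [← Complex.exp_add]
    congr 1
    rw [toAdd_mul]
    push_cast
    ring

theorem expQ_one : expQ (Multiplicative.ofAdd 1) = 1 := by
  apply Subtype.ext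
  change Complex.exp (2 * Real.pi * Complex.I * ((1 : ℚ) : ℂ)) = 1
  rw [Rat.cast_one, mul_one]
  exact Complex.exp_two_pi_mul_I

theorem expQ_prim (N : ℕ) (hN : 0 < N) :
    IsPrimitiveRoot (expQ (Multiplicative.ofAdd (1 / (N : ℚ)))) N := by
  have h : Function.Injective (algebraicClosure ℚ ℂ).val := Subtype.val_injective
  refine IsPrimitiveRoot.of_map_of_injective (f := (algebraicClosure ℚ ℂ).val) ?_ h
  have h1 := Complex.isPrimitiveRoot_exp N hN.ne'
  convert h1 using 1
  change Complex.exp (2 * Real.pi * Complex.I * ((1 / (N : ℚ) : ℚ) : ℂ)) = _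
  congr 1
  push_cast
  ring

/-- A character of `ℚ` with kernel `ℤ`. -/
theorem exists_char (k : Type u) [Field k] [IsAlgClosed k] [CharZero k] :
    ∃ χ : Multiplicative ℚ →* k, χ (Multiplicative.ofAdd 1) = 1 ∧
      ∀ N : ℕ, 0 < N → IsPrimitiveRoot (χ (Multiplicative.ofAdd (1 / (N : ℚ)))) N := by
  have : Algebra.IsAlgebraic ℚ (algebraicClosure ℚ ℂ) := by
    have e : (DivisionRing.toRatAlgebra : Algebra ℚ (algebraicClosure ℚ ℂ)) =
        (algebraicClosure ℚ ℂ).algebra' := Subsingleton.elim _ _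
    rw [e]
    exact algebraicClosure.isAlgebraic ℚ ℂ
  let φ : algebraicClosure ℚ ℂ →ₐ[ℚ] k := IsAlgClosed.lift
  refine ⟨(φ : algebraicClosure ℚ ℂ →* k).comp expQ, ?_, fun N hN => ?_⟩
  · change φ _ = 1
    rw [expQ_one, map_one]
  · exact (expQ_prim N hN).map_of_injective (f := φ) φ.toRingHom.injective

end Char

section Extend

/-- The units of an algebraically closed field are divisible. -/
theorem exists_zsmul {Ω : Type u} [Field Ω] [IsAlgClosed Ω] {n : ℤ} (hn : n ≠ 0) (a : Additive Ωˣ) :
    ∃ b : Additive Ωˣ, n • b = a := by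
  have h1 : 0 < n.natAbs := Int.natAbs_pos.2 hn
  have key : ∀ a : Additive Ωˣ, ∃ b : Additive Ωˣ, (n.natAbs : ℤ) • b = a := by
    intro a
    obtain ⟨z, hz⟩ := IsAlgClosed.exists_pow_nat_eq ((a.toMul : Ωˣ) : Ω) h1
    have hz0 : z ≠ 0 := by
      rintro rfl
      rw [zero_pow h1.ne'] at hz
      exact a.toMul.ne_zero hz.symm
    refine ⟨Additive.ofMul (Units.mk0 z hz0), ?_⟩
    rw [natCast_zsmul]
    apply Additive.toMul.injective
    rw [toMul_nsmul]
    apply Units.ext
    exact hz
  rcases Int.natAbs_eq n with h | h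
  · rw [h]
    exact key a
  · obtain ⟨b, hb⟩ := key (-a)
    refine ⟨b, ?_⟩
    rw [h, neg_zsmul, hb, neg_neg]

/-- Characters of a subgroup of `ℚ` extend. -/
theorem extend {Ω : Type u} [Field Ω] [IsAlgClosed Ω] (L : AddSubgroup ℚ)
    (ψ : Multiplicative L →* Ω) :
    ∃ ω : Multiplicative ℚ →* Ω, ∀ x : L, ω (Multiplicative.ofAdd (x : ℚ)) =
      ψ (Multiplicative.ofAdd x) := by
  let _ : DivisibleBy (Additive Ωˣ) ℤ := divisibleByOfSMulRightSurj (Additive Ωˣ) ℤ
    (fun hn a => exists_zsmul hn a)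
  let g : L →+ Additive Ωˣ :=
    { toFun := fun x => Additive.ofMul (ψ.toHomUnits (Multiplicative.ofAdd x))
      map_zero' := by
        rw [ofAdd_zero, map_one]
        rfl
      map_add' := fun x y => by
        rw [ofAdd_add, map_mul]
        rfl }
  obtain ⟨h, hh⟩ := (Module.Baer.of_divisible (Additive Ωˣ)).extension_property_addMonoidHom
    L.subtype L.subtype_injective g
  refine ⟨{ toFun := fun q => ((h q.toAdd).toMul : Ωˣ)
            map_one' := by
              rw [toAdd_one, map_zero]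
              rfl
            map_mul' := fun p q => by
              rw [toAdd_mul, map_add]
              rfl }, fun x => ?_⟩
  have := DFunLike.congr_fun hh x
  change (((h (x : ℚ)).toMul : Ωˣ) : Ω) = _
  change h (x : ℚ) = g x at this
  rw [this]
  rfl

end Extend

section Twist

variable (k : Type u) [Field k] {M M' : Type} [AddCommMonoid M] [AddCommMonoid M']

/-- The automorphism of `k[M]` attached to a character. -/
noncomputable def tw (χ : Multiplicative M →* k) : AddMonoidAlgebra k M →+* AddMonoidAlgebra k M :=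
  mk k (algebraMap k (AddMonoidAlgebra k M))
    { toFun := fun m => AddMonoidAlgebra.single m.toAdd (χ m)
      map_one' := by
        rw [toAdd_one, map_one]
        rfl
      map_mul' := fun x y => by
        rw [toAdd_mul, map_mul, AddMonoidAlgebra.single_mul_single] }

@[simp] theorem tw_single (χ : Multiplicative M →* k) (m : M) (r : k) :
    tw k χ (AddMonoidAlgebra.single m r) =
      AddMonoidAlgebra.single m (χ (Multiplicative.ofAdd m) * r) := by
  rw [tw, mk_single]
  change AddMonoidAlgebra.single 0 r * AddMonoidAlgebra.single m (χ (Multiplicative.ofAdd m)) = _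
  rw [AddMonoidAlgebra.single_mul_single, zero_add, mul_comm]

theorem tw_pow_single (χ : Multiplicative M →* k) (j : ℕ) (m : M) (r : k) :
    (tw k χ ^ j) (AddMonoidAlgebra.single m r) =
      AddMonoidAlgebra.single m (χ (Multiplicative.ofAdd m) ^ j * r) := by
  induction j generalizing r with
  | zero =>
    rw [pow_zero, pow_zero, one_mul]
    rfl
  | succ j ih =>
    rw [pow_succ]
    change (tw k χ ^ j) (tw k χ _) = _
    rw [tw_single, ih, pow_succ, mul_assoc]

theorem tw_rm (f : M →+ M') (χ : Multiplicative M →* k) (χ' : Multiplicative M' →* k)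
    (h : ∀ m, χ' (Multiplicative.ofAdd (f m)) = χ (Multiplicative.ofAdd m)) :
    (tw k χ').comp (rm k f) = (rm k f).comp (tw k χ) := by
  apply hom_ext'
  · intro r
    simp
  · intro m
    simp [h]

theorem tw_rm_of_one (f : M →+ M') (χ' : Multiplicative M' →* k)
    (h : ∀ m, χ' (Multiplicative.ofAdd (f m)) = 1) : (tw k χ').comp (rm k f) = rm k f := by
  apply hom_ext'
  · intro r
    simp
  · intro m
    simp [h]

end Twist

section Level

/-- The subgroup `(1 / a!) ℤ` of `ℚ`. -/
def Lv (a : ℕ) : AddSubgroup ℚ :=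
  (Int.castAddHom ℚ).range.comap (AddMonoidHom.mulLeft (a.factorial : ℚ))

theorem mem_Lv {a : ℕ} {x : ℚ} : x ∈ Lv a ↔ ∃ m : ℤ, (m : ℚ) = a.factorial * x := Iff.rfl

theorem Lv_mono : Monotone Lv := by
  intro a b h x hx
  obtain ⟨m, hm⟩ := mem_Lv.1 hx
  obtain ⟨c, hc⟩ := Nat.factorial_dvd_factorial h
  refine mem_Lv.2 ⟨c * m, ?_⟩
  rw [hc]
  push_cast
  rw [hm]
  ring

theorem int_mem_Lv (a : ℕ) (m : ℤ) : (m : ℚ) ∈ Lv a :=
  mem_Lv.2 ⟨a.factorial * m, by push_cast; ring⟩

theorem exists_mem_Lv (x : ℚ) : ∃ a, x ∈ Lv a := by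
  obtain ⟨c, hc⟩ := Nat.dvd_factorial x.den_pos le_rfl
  refine ⟨x.den, mem_Lv.2 ⟨c * x.num, ?_⟩⟩
  rw [hc]
  push_cast
  have : (x.den : ℚ) * x = x.num := by rw [mul_comm]; exact Rat.mul_den_eq_num x
  rw [← this]
  ring

/-- `ℤ ⟶ (1 / a!) ℤ`. -/
def ι (a : ℕ) : ℤ →+ Lv a where
  toFun m := ⟨m, int_mem_Lv a m⟩
  map_zero' := Subtype.ext Int.cast_zero
  map_add' x y := Subtype.ext (Int.cast_add x y)

@[simp] theorem ι_val (a : ℕ) (m : ℤ) : ((ι a m : Lv a) : ℚ) = m := rfl

/-- The generator `1 / a!`. -/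
noncomputable def gn (a : ℕ) : Lv a :=
  ⟨1 / (a.factorial : ℚ), mem_Lv.2 ⟨1, by
    have : (a.factorial : ℚ) ≠ 0 := by exact_mod_cast a.factorial_ne_zero
    field_simp
    norm_num⟩⟩

theorem gn_val (a : ℕ) : ((gn a : Lv a) : ℚ) = 1 / (a.factorial : ℚ) := rfl

/-- `ℤ ≃ (1 / a!) ℤ`. -/
noncomputable def eLv (a : ℕ) : ℤ ≃+ Lv a :=
  AddEquiv.ofBijective (zmultiplesHom (Lv a) (gn a)) (by
    have hf : (a.factorial : ℚ) ≠ 0 := by exact_mod_cast a.factorial_ne_zero
    constructor
    · intro m m' h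
      have h1 := congrArg Subtype.val h
      rw [zmultiplesHom_apply, zmultiplesHom_apply, AddSubgroup.coe_zsmul, AddSubgroup.coe_zsmul,
        gn_val, zsmul_eq_mul, zsmul_eq_mul] at h1
      field_simp at h1
      exact_mod_cast h1
    · intro x
      obtain ⟨m, hm⟩ := mem_Lv.1 x.2
      refine ⟨m, Subtype.ext ?_⟩
      rw [zmultiplesHom_apply, AddSubgroup.coe_zsmul, gn_val, zsmul_eq_mul, hm]
      field_simp)

theorem eLv_apply (a : ℕ) (m : ℤ) : eLv a m = m • gn a := rfl

theorem eLv_one (a : ℕ) : eLv a 1 = gn a := one_zsmul _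

theorem ι_eq (a : ℕ) (m : ℤ) : ι a m = eLv a (a.factorial * m) := by
  have hf : (a.factorial : ℚ) ≠ 0 := by exact_mod_cast a.factorial_ne_zero
  apply Subtype.ext
  rw [eLv_apply, AddSubgroup.coe_zsmul, gn_val, zsmul_eq_mul, ι_val]
  push_cast
  field_simp

end Level

section Etale

open Polynomial

variable (k : Type u) [Field k] [CharZero k]

theorem etale_rm {M : Type} [AddCommGroup M] (e : ℤ ≃+ M) (N : ℕ) (hN : 0 < N) (f : ℤ →+ M)
    (hf : ∀ m, f m = e (N * m)) : (rm k f).Etale := by
  let R := AddMonoidAlgebra k ℤ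
  let S := AddMonoidAlgebra k M
  let _ : Algebra R S := (rm k f).toAlgebra
  change (algebraMap R S).Etale
  rw [RingHom.etale_algebraMap]
  let x : R := AddMonoidAlgebra.single 1 1
  let x' : R := AddMonoidAlgebra.single (-1) 1
  have hxx : x' * x = 1 := by
    change AddMonoidAlgebra.single (-1) 1 * AddMonoidAlgebra.single 1 1 = (1 : AddMonoidAlgebra k ℤ)
    rw [AddMonoidAlgebra.single_mul_single]
    simp
  let P : R[X] := X ^ N - C x
  have hP : P.Monic := monic_X_pow_sub_C x hN.ne'
  have hN0 : (N : k) ≠ 0 := by exact_mod_cast hN.ne'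
  let c : R := AddMonoidAlgebra.single 0 ((N : k)⁻¹)
  have hc : c * (N : R) = 1 := by
    have : (N : R) = AddMonoidAlgebra.single 0 (N : k) := (map_natCast (algebraMap k R) N).symm
    rw [this]
    change AddMonoidAlgebra.single 0 ((N : k)⁻¹) * AddMonoidAlgebra.single 0 (N : k) =
      (1 : AddMonoidAlgebra k ℤ)
    rw [AddMonoidAlgebra.single_mul_single, inv_mul_cancel₀ hN0]
    simp
  have hcop : IsCoprime P (derivative P) := by
    refine ⟨-C x', C (x' * c) * X, ?_⟩
    have h1 : derivative P = C (N : R) * X ^ (N - 1) := by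
      simp [P, derivative_X_pow]
    rw [h1]
    have h2 : (X : R[X]) * X ^ (N - 1) = X ^ N := by
      rw [← pow_succ', Nat.sub_add_cancel hN]
    calc -C x' * (X ^ N - C x) + C (x' * c) * X * (C (N : R) * X ^ (N - 1))
        = -C x' * X ^ N + C (x' * x) + C (x' * (c * N)) * (X * X ^ (N - 1)) := by
          simp only [map_mul]
          ring
      _ = 1 := by
          rw [hxx, hc, h2, mul_one, map_one]
          ring
  have hE : Algebra.Etale R (AdjoinRoot P) := Flat2E.FinEtaleSpread.etale_adjoinRoot P hP hcop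
  -- the unit `root`
  have hroot : AdjoinRoot.root P ^ N = AdjoinRoot.of P x := by
    have h1 := AdjoinRoot.eval₂_root P
    rw [eval₂_sub, eval₂_X_pow, eval₂_C, sub_eq_zero] at h1
    exact h1
  let r : (AdjoinRoot P)ˣ := Units.mkOfMulEqOne (AdjoinRoot.root P)
    (AdjoinRoot.root P ^ (N - 1) * AdjoinRoot.of P x') (by
      rw [← mul_assoc, ← pow_succ', Nat.sub_add_cancel hN, hroot, ← map_mul, mul_comm x x', hxx,
        map_one])
  have hr : (r : AdjoinRoot P) = AdjoinRoot.root P := rfl
  -- forward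
  have hev : (eval₂ (algebraMap R S) (AddMonoidAlgebra.single (e 1) 1 : S) P) = 0 := by
    rw [eval₂_sub, eval₂_X_pow, eval₂_C, AddMonoidAlgebra.single_pow, one_pow]
    change _ - rm k f (AddMonoidAlgebra.single 1 1) = 0
    rw [rm_single, hf, mul_one, sub_eq_zero]
    congr 1
    rw [← map_nsmul]
    congr 1
    simp
  let F : AdjoinRoot P →+* S := AdjoinRoot.lift (algebraMap R S) (AddMonoidAlgebra.single (e 1) 1) hev
  -- backward
  let ψ : Multiplicative M →* AdjoinRoot P :=
    { toFun := fun m => ((r ^ (e.symm m.toAdd) : (AdjoinRoot P)ˣ) : AdjoinRoot P)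
      map_one' := by simp
      map_mul' := fun a b => by
        rw [toAdd_mul, map_add, zpow_add, Units.val_mul] }
  let G : S →+* AdjoinRoot P := mk k ((AdjoinRoot.of P).comp (algebraMap k R)) ψ
  have hψ : ∀ m : ℤ, ψ (Multiplicative.ofAdd (e m)) = ((r ^ m : (AdjoinRoot P)ˣ) : AdjoinRoot P) := by
    intro m
    change ((r ^ (e.symm (e m)) : (AdjoinRoot P)ˣ) : AdjoinRoot P) = _
    rw [e.symm_apply_apply]
  have hGF : G.comp (algebraMap R S) = AdjoinRoot.of P := by
    apply hom_ext' (k := k)
    · intro s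
      change G (rm k f _) = _
      rw [rm_single, map_zero, mk_single, ofAdd_zero, map_one, mul_one]
      rfl
    · intro m
      change G (rm k f _) = _
      rw [rm_single, mk_single, map_one, one_mul, hf, hψ, zpow_mul, zpow_natCast]
      have h1 : ((r ^ N : (AdjoinRoot P)ˣ) : AdjoinRoot P) = AdjoinRoot.of P x := by
        rw [Units.val_pow_eq_pow_val, hr, hroot]
      have h2 : ∀ n : ℕ, AdjoinRoot.of P (AddMonoidAlgebra.single (n : ℤ) 1) =
          (((r ^ N) ^ n : (AdjoinRoot P)ˣ) : AdjoinRoot P) := by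
        intro n
        rw [Units.val_pow_eq_pow_val, h1, ← map_pow]
        congr 1
        change _ = (AddMonoidAlgebra.single (1 : ℤ) (1 : k)) ^ n
        rw [AddMonoidAlgebra.single_pow, one_pow, nsmul_one]
      rcases Int.eq_nat_or_neg m with ⟨n, rfl | rfl⟩
      · rw [zpow_natCast, h2]
      · rw [zpow_neg, zpow_natCast]
        symm
        rw [Units.eq_inv_of_mul_eq_one_left (a := AdjoinRoot.of P (AddMonoidAlgebra.single (-(n : ℤ)) 1))
          (u := (r ^ N) ^ n)]
        rw [← h2, ← map_mul, AddMonoidAlgebra.single_mul_single]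
        simp
  have hFG : G.comp F = RingHom.id _ := by
    apply AdjoinRoot.ringHom_ext
    · rw [RingHom.comp_assoc, AdjoinRoot.lift_comp_of, hGF]
      rfl
    · change G (F (AdjoinRoot.root P)) = AdjoinRoot.root P
      rw [AdjoinRoot.lift_root, mk_single, map_one, one_mul, hψ, zpow_one, hr]
  have hFG' : F.comp G = RingHom.id _ := by
    apply hom_ext'
    · intro s
      change F (G _) = _
      rw [mk_single, ofAdd_zero, map_one, mul_one]
      change F (AdjoinRoot.of P (AddMonoidAlgebra.single 0 s)) = _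
      rw [AdjoinRoot.lift_of]
      change rm k f _ = _
      rw [rm_single, map_zero]
      rfl
    · intro m
      obtain ⟨m, rfl⟩ := e.surjective m
      change F (G _) = _
      rw [mk_single, map_one, one_mul, hψ]
      have h1 : F (r : AdjoinRoot P) = AddMonoidAlgebra.single (e 1) 1 := AdjoinRoot.lift_root _
      have h2 : ∀ n : ℕ, F ((r ^ n : (AdjoinRoot P)ˣ) : AdjoinRoot P) =
          AddMonoidAlgebra.single (e (n : ℤ)) 1 := by
        intro n
        rw [Units.val_pow_eq_pow_val, map_pow, h1, AddMonoidAlgebra.single_pow, one_pow, ← map_nsmul,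
          nsmul_one]
      rcases Int.eq_nat_or_neg m with ⟨n, rfl | rfl⟩
      · rw [zpow_natCast, h2]
        rfl
      · have h3 : F ((r ^ (-(n : ℤ)) : (AdjoinRoot P)ˣ) : AdjoinRoot P) *
            AddMonoidAlgebra.single (e (n : ℤ)) 1 = 1 := by
          rw [← h2, ← map_mul, ← Units.val_mul, zpow_neg, zpow_natCast, inv_mul_cancel, Units.val_one,
            map_one]
        have h4 : (AddMonoidAlgebra.single (e (-(n : ℤ))) 1 : S) *
            AddMonoidAlgebra.single (e (n : ℤ)) 1 = 1 := by
          rw [AddMonoidAlgebra.single_mul_single, ← map_add]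
          simp
          rfl
        have h5 : (AddMonoidAlgebra.single (e (n : ℤ)) 1 : S) *
            AddMonoidAlgebra.single (e (-(n : ℤ))) 1 = 1 := by rw [mul_comm, h4]
        change _ = AddMonoidAlgebra.single (e (-(n : ℤ))) 1
        calc _ = F ((r ^ (-(n : ℤ)) : (AdjoinRoot P)ˣ) : AdjoinRoot P) *
              (AddMonoidAlgebra.single (e (n : ℤ)) 1 * AddMonoidAlgebra.single (e (-(n : ℤ))) 1) := by
                rw [h5, mul_one]
          _ = _ := by rw [← mul_assoc, h3, one_mul]
  let E : AdjoinRoot P ≃+* S := RingEquiv.ofRingHom F G hFG' hFG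
  let E' : AdjoinRoot P ≃ₐ[R] S := AlgEquiv.ofRingEquiv (f := E) (fun s => by
    change F (AdjoinRoot.of P s) = _
    exact AdjoinRoot.lift_of _)
  exact Algebra.Etale.of_equiv E'

end Etale

end Groth.Agent.Sga7.H560.QAlg
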